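import Groth.Agent.S3030
import Groth.Agent.S8003
import Groth.Agent.GrpSchLib.ImageFactor
import Groth.Agent.GrpSchLib.MonoSubgroup
import Groth.Agent.GrpSchLib.SmoothQuot
import Groth.Agent.GrpSchLib.KernelPair
import Groth.Agent.SrcDescent.SchemeFppf
import Groth.Agent.WittEndoLib.Torsor
import Groth.Agent.Deform.Chev.Components
import Groth.Agent.Deform.TorusAlg
import Mathlib.RingTheory.Ideal.Height

/-!
# Joining smooth connected normal subgroups
-/

set_option autoImplicit false
set_option linter.style.haveILetI false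
set_option linter.unusedSectionVars false

universe u

open CategoryTheory CategoryTheory.Limits MonoidalCategory CartesianMonoidalCategory AlgebraicGeometry
open scoped MonObj

attribute [local instance] CategoryTheory.Hom.monoid CategoryTheory.Hom.group

noncomputable section

namespace Groth.Agent.Deform.MaxNormal

open GrpSchLib (exists_grpObj_of_mono)

variable {k : Type u} [Field k]

theorem mono_of_closed {X Y : Over (Spec (CommRingCat.of k))} (i : X ⟶ Y) [IsClosedImmersion i.left] : Mono i :=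
  (Over.forget _).mono_of_mono_map (inferInstanceAs (Mono i.left))

theorem quasiCompact_hom {G Q : Over (Spec (CommRingCat.of k))} [GrpObj Q] [LocallyOfFiniteType Q.hom]
    [QuasiCompact G.hom] (q : G ⟶ Q) : QuasiCompact q.left := by
  haveI := GrpSchLib.AntiAffine.isSeparated_grp Q
  haveI : QuasiCompact (q.left ≫ Q.hom) := by rw [Over.w q]; infer_instance
  exact QuasiCompact.of_comp q.left Q.hom

/-- A smooth kernel makes a flat surjective homomorphism smooth. -/
theorem smooth_of_kernel {N E I : Over (Spec (CommRingCat.of k))} [GrpObj E] [GrpObj I] (i : N ⟶ E) (p : E ⟶ I)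
    [IsMonHom p] [Flat p.left] [Surjective p.left] [QuasiCompact p.left] [Smooth N.hom]
    (hN : AlgGrp.IsKernel i p) : Smooth p.left := by
  obtain ⟨v, hv, hvs⟩ := GrpSchLib.exists_kernelPair_iso i p hN
  haveI := hv
  have h1 : Smooth (snd N E).left := inferInstanceAs (Smooth (pullback.snd N.hom E.hom))
  rw [← hvs] at h1
  have h2 : Smooth (pullback.snd p.left p.left) := by
    rw [← IsIso.inv_hom_id_assoc v (pullback.snd p.left p.left)]
    exact MorphismProperty.comp_mem (@Smooth : MorphismProperty Scheme.{u}) _ _ (inferInstance : Smooth (inv v)) h1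
  exact MorphismProperty.of_pullback_snd_of_descendsAlong (P := @Smooth)
    (Q := @Surjective ⊓ @Flat ⊓ @QuasiCompact) (f := p.left) (g := p.left)
    ⟨⟨inferInstance, inferInstance⟩, inferInstance⟩ h2

/-- Factoring through a monomorphism descends along faithfully flat maps. -/
theorem exists_factor_of_fppf {X Y Z G : Over (Spec (CommRingCat.of k))} (π : X ⟶ Y) [Flat π.left] [Surjective π.left]
    [QuasiCompact π.left] (c : Y ⟶ G) (i : Z ⟶ G) [IsClosedImmersion i.left] (m : X ⟶ Z) (h : m ≫ i = π ≫ c) :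
    ∃ d : Y ⟶ Z, d ≫ i = c := by
  let z := pullback.fst c.left i.left
  haveI : IsClosedImmersion z := MorphismProperty.pullback_fst _ _ inferInstance
  let s : X.left ⟶ pullback c.left i.left := pullback.lift π.left m.left (by rw [← Over.comp_left, ← Over.comp_left, h])
  let t : X.left ⟶ pullback z π.left := pullback.lift s (𝟙 _) (by
    rw [Category.id_comp]; exact pullback.lift_fst _ _ _)
  haveI : IsIso (pullback.snd z π.left) := by
    haveI : IsSplitEpi (pullback.snd z π.left) := IsSplitEpi.mk' ⟨t, pullback.lift_snd _ _ _⟩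
    exact isIso_of_mono_of_isSplitEpi _
  haveI : IsIso z := MorphismProperty.of_pullback_snd_of_descendsAlong
    (P := MorphismProperty.isomorphisms Scheme.{u}) (Q := @Surjective ⊓ @Flat ⊓ @QuasiCompact)
    (f := z) (g := π.left) ⟨⟨inferInstance, inferInstance⟩, inferInstance⟩ (inferInstance : IsIso _)
  refine ⟨Over.homMk (inv z ≫ pullback.snd c.left i.left) ?_, Over.OverMorphism.ext ?_⟩
  · rw [Category.assoc, ← Over.w i, ← pullback.condition_assoc, Over.w c]
    show inv z ≫ z ≫ Y.hom = Y.hom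
    rw [IsIso.inv_hom_id_assoc]
  · show (inv z ≫ pullback.snd c.left i.left) ≫ i.left = c.left
    rw [Category.assoc, ← pullback.condition]
    exact IsIso.inv_hom_id_assoc z c.left

/-- The image of a normal subgroup under a faithfully flat homomorphism is normal. -/
theorem normal_image {G Q H I : Over (Spec (CommRingCat.of k))} [GrpObj G] [GrpObj Q] [GrpObj H] [GrpObj I]
    (q : G ⟶ Q) [IsMonHom q] [Flat q.left] [Surjective q.left] [QuasiCompact q.left]
    (j : H ⟶ G) (hn : AlgGrp.IsNormalHom j) (p : H ⟶ I) [Flat p.left] [Surjective p.left] [QuasiCompact p.left]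
    (i : I ⟶ Q) [IsClosedImmersion i.left] (hpi : p ≫ i = j ≫ q) : AlgGrp.IsNormalHom i := by
  obtain ⟨m, hm⟩ := hn _ (fst G H) (snd G H)
  have hP : ∀ (P : MorphismProperty Scheme.{u}) [P.IsStableUnderBaseChange] [P.IsStableUnderComposition],
      P q.left → P p.left → P (q ⊗ₘ p).left := fun P _ _ hq hp => by
    rw [Over.tensorHom_left]
    exact MorphismProperty.pullback_map hq hp (Over.w q).symm (Over.w p).symm
  haveI : Flat (q ⊗ₘ p).left := hP @Flat inferInstance inferInstance
  haveI : Surjective (q ⊗ₘ p).left := hP @Surjective inferInstance inferInstance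
  haveI : QuasiCompact (q ⊗ₘ p).left := hP @QuasiCompact inferInstance inferInstance
  obtain ⟨d, hd⟩ := exists_factor_of_fppf (q ⊗ₘ p) (fst Q I * (snd Q I ≫ i) * (fst Q I)⁻¹) i (m ≫ p) (by
    rw [Category.assoc, hpi, ← Category.assoc, ← hm]
    simp only [MonObj.comp_mul, GrpObj.comp_inv, MonObj.mul_comp, GrpObj.inv_comp, tensorHom_fst, tensorHom_snd_assoc,
      Category.assoc, hpi])
  intro T g n
  refine ⟨lift g n ≫ d, ?_⟩
  rw [Category.assoc, hd]
  simp only [MonObj.comp_mul, GrpObj.comp_inv, lift_fst, lift_snd_assoc]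

/-- **The preimage of a closed subgroup under a faithfully flat homomorphism.** -/
theorem exists_preimage {G Q H I : Over (Spec (CommRingCat.of k))} [GrpObj G] [GrpObj Q] [GrpObj H] [GrpObj I]
    (q : G ⟶ Q) [IsMonHom q] [Flat q.left] [Surjective q.left] [QuasiCompact q.left]
    (j : H ⟶ G) [IsMonHom j] [IsClosedImmersion j.left] (hk : AlgGrp.IsKernel j q)
    (i : I ⟶ Q) [IsMonHom i] [IsClosedImmersion i.left] :
    ∃ (E : Over (Spec (CommRingCat.of k))) (_ : GrpObj E) (e : E ⟶ G) (p : E ⟶ I) (t : H ⟶ E),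
      IsMonHom e ∧ IsClosedImmersion e.left ∧ IsMonHom p ∧ Flat p.left ∧ Surjective p.left ∧ QuasiCompact p.left ∧
      e ≫ q = p ≫ i ∧ IsMonHom t ∧ t ≫ e = j ∧ AlgGrp.IsKernel t p ∧
      (∀ {T : Over (Spec (CommRingCat.of k))} (g : T ⟶ G) (x : T ⟶ I), g ≫ q = x ≫ i → ∃ y : T ⟶ E, y ≫ e = g) ∧
      (AlgGrp.IsNormalHom i → AlgGrp.IsNormalHom e) := by
  haveI := mono_of_closed i
  let E : Over (Spec (CommRingCat.of k)) := Over.mk (pullback.fst q.left i.left ≫ G.hom)
  let e : E ⟶ G := Over.homMk (pullback.fst q.left i.left) rfl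
  let p : E ⟶ I := Over.homMk (pullback.snd q.left i.left) (by
    show pullback.snd q.left i.left ≫ I.hom = pullback.fst q.left i.left ≫ G.hom
    rw [← Over.w i, ← pullback.condition_assoc, Over.w q])
  have hep : e ≫ q = p ≫ i := Over.OverMorphism.ext pullback.condition
  haveI : IsClosedImmersion e.left := MorphismProperty.pullback_fst _ _ inferInstance
  haveI := mono_of_closed e
  haveI : Flat p.left := MorphismProperty.pullback_snd _ _ inferInstance
  haveI : Surjective p.left := MorphismProperty.pullback_snd _ _ inferInstance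
  haveI : QuasiCompact p.left := MorphismProperty.pullback_snd _ _ inferInstance
  have hlift : ∀ {T : Over (Spec (CommRingCat.of k))} (g : T ⟶ G) (x : T ⟶ I), g ≫ q = x ≫ i →
      ∃ y : T ⟶ E, y ≫ e = g := fun {T} g x h => by
    refine ⟨Over.homMk (pullback.lift g.left x.left (by rw [← Over.comp_left, ← Over.comp_left, h])) ?_,
      Over.OverMorphism.ext (pullback.lift_fst _ _ _)⟩
    show pullback.lift _ _ _ ≫ pullback.fst q.left i.left ≫ G.hom = T.hom
    rw [pullback.lift_fst_assoc, Over.w g]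
  have hmem : ∀ {T : Over (Spec (CommRingCat.of k))} (y : T ⟶ E), (y ≫ e) ≫ q = (y ≫ p) ≫ i := fun y => by
    rw [Category.assoc, hep, Category.assoc]
  obtain ⟨η', he⟩ := hlift η[G] η[I] (by rw [IsMonHom.one_hom, IsMonHom.one_hom])
  obtain ⟨μ', hm⟩ := hlift ((fst E E ≫ e) * (snd E E ≫ e)) ((fst E E ≫ p) * (snd E E ≫ p)) (by
    rw [MonObj.mul_comp, MonObj.mul_comp, hmem, hmem])
  obtain ⟨ν, hv⟩ := hlift e⁻¹ p⁻¹ (by rw [GrpObj.inv_comp, GrpObj.inv_comp, hep])
  obtain ⟨str, he'⟩ := exists_grpObj_of_mono e η' he μ' hm ν hv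
  letI := str
  haveI := he'
  haveI : IsMonHom p := Deform.isMonHom_of_comp p i (i := e ≫ q) hep.symm
  obtain ⟨t, ht⟩ := hlift j (1 : H ⟶ I) (by rw [MonObj.one_comp, hk.w, Hom.one_def])
  haveI : IsMonHom t := Deform.isMonHom_of_comp t e (i := j) ht
  haveI := mono_of_closed j
  have htp : t ≫ p = toUnit H ≫ η[I] := by
    rw [← cancel_mono i, Category.assoc, ← hep, ← Category.assoc, ht, hk.w, Category.assoc, IsMonHom.one_hom]
  have hkt : AlgGrp.IsKernel t p := by
    refine ⟨⟨htp⟩, ⟨PullbackCone.IsLimit.mk _ (fun s => hk.lift (s.fst ≫ e) (toUnit _) ?_) (fun s => ?_)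
      (fun s => toUnit_unique _ _) (fun s m h1 _ => ?_)⟩⟩
    · rw [hmem, s.condition, Category.assoc, IsMonHom.one_hom, toUnit_unique s.snd (toUnit _)]
    · rw [← cancel_mono e, Category.assoc, ht, hk.lift_fst]
    · rw [← cancel_mono j, hk.lift_fst, ← h1, Category.assoc, ht]
  refine ⟨E, str, e, p, t, he', inferInstance, inferInstance, inferInstance, inferInstance, inferInstance, hep,
    inferInstance, ht, hkt, hlift, fun hn T g y => ?_⟩
  obtain ⟨x, hx⟩ := hn _ (g ≫ q) (y ≫ p)
  obtain ⟨y', hy'⟩ := hlift (g * (y ≫ e) * g⁻¹) x (by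
    rw [MonObj.mul_comp, MonObj.mul_comp, GrpObj.inv_comp, hmem, hx])
  exact ⟨y', hy'.symm⟩

/-- **An extension of connected groups is connected.** -/
theorem connectedSpace_ext {H E I : Over (Spec (CommRingCat.of k))} [GrpObj H] [GrpObj E] [GrpObj I]
    [Smooth E.hom] [QuasiCompact E.hom] [LocallyOfFiniteType I.hom] [ConnectedSpace H.left] [ConnectedSpace I.left]
    (t : H ⟶ E) [IsMonHom t] (p : E ⟶ I) [IsMonHom p] [Flat p.left] (hk : AlgGrp.IsKernel t p) :
    ConnectedSpace E.left := by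
  obtain ⟨E₀, gE₀, c, hc, hcc, hco, hs, hqc, hconn, hr⟩ := Chev.exists_neutral E
  haveI := hc; haveI := hcc; haveI := hco; haveI := hs; haveI := hqc
  haveI := mono_of_closed c
  -- the kernel lies in the neutral component
  have hH : Set.range t.left ⊆ Set.range c.left := by
    rw [hr]
    refine (isPreconnected_range t.left.continuous).subset_connectedComponent
      ⟨η[H].left (IsLocalRing.closedPoint k), ?_⟩
    rw [← Scheme.Hom.comp_apply, ← Over.comp_left, IsMonHom.one_hom]
  obtain ⟨d, hd⟩ : ∃ d : H ⟶ E₀, d ≫ c = t := ⟨Over.homMk (IsOpenImmersion.lift c.left t.left hH) (by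
    rw [← Over.w c, ← Category.assoc, IsOpenImmersion.lift_fac, Over.w t]),
    Over.OverMorphism.ext (IsOpenImmersion.lift_fac _ _ _)⟩
  -- the neutral component maps onto the quotient
  haveI : LocallyOfFiniteType (c ≫ p).left := by
    haveI : LocallyOfFiniteType ((c ≫ p).left ≫ I.hom) := by rw [Over.w]; infer_instance
    exact locallyOfFiniteType_of_comp (c ≫ p).left I.hom
  haveI : IsLocallyNoetherian I.left := LocallyOfFiniteType.isLocallyNoetherian I.hom
  haveI : LocallyOfFinitePresentation (c ≫ p).left := inferInstance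
  haveI : Flat (c ≫ p).left := inferInstanceAs (Flat (c.left ≫ p.left))
  haveI : QuasiCompact (c ≫ p).left := quasiCompact_hom (c ≫ p)
  have hsurj : Function.Surjective (c ≫ p).left := by
    have hcl : IsClopen (Set.range (c ≫ p).left) :=
      ⟨GrpSchLib.HomClosedRange.isClosed_range (c ≫ p), (c ≫ p).left.isOpenMap.isOpen_range⟩
    rw [← Set.range_eq_univ]
    exact hcl.eq_univ ⟨_, η[E₀].left (IsLocalRing.closedPoint k), rfl⟩
  haveI : Surjective c.left := by
    refine ⟨fun x => ?_⟩
    obtain ⟨x₀, hx₀⟩ := hsurj (p.left x)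
    obtain ⟨w, hw1, hw2⟩ := Scheme.Pullback.exists_preimage_pullback x₀ x hx₀
    let T : Over (Spec (CommRingCat.of k)) :=
      Over.mk ((pullback (c ≫ p).left p.left).fromSpecResidueField w ≫ pullback.snd _ _ ≫ E.hom)
    let b : T ⟶ E := Over.homMk ((pullback (c ≫ p).left p.left).fromSpecResidueField w ≫ pullback.snd _ _)
      (Category.assoc _ _ _)
    let a : T ⟶ E₀ := Over.homMk ((pullback (c ≫ p).left p.left).fromSpecResidueField w ≫ pullback.fst _ _) (by
      show _ = _ ≫ pullback.snd _ _ ≫ E.hom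
      rw [Category.assoc, ← Over.w p, ← pullback.condition_assoc, Over.w])
    have hab : (a ≫ c) ≫ p = b ≫ p := by
      apply Over.OverMorphism.ext
      show (((_ ≫ pullback.fst _ _) ≫ c.left) ≫ p.left) = (_ ≫ pullback.snd _ _) ≫ p.left
      rw [Category.assoc, Category.assoc, Category.assoc]
      exact congrArg (_ ≫ ·) pullback.condition
    obtain ⟨h, hh⟩ := WittEndoLib.Ext.exists_diff hk (a ≫ c) b hab
    have hb : (a * (h ≫ d)) ≫ c = b := by
      rw [MonObj.mul_comp, Category.assoc, hd, hh, mul_inv_cancel_left]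
    refine ⟨(a * (h ≫ d)).left (IsLocalRing.closedPoint _), ?_⟩
    rw [← Scheme.Hom.comp_apply, ← Over.comp_left, hb]
    show ((pullback (c ≫ p).left p.left).fromSpecResidueField w ≫ pullback.snd _ _) _ = x
    rw [Scheme.Hom.comp_apply, Scheme.fromSpecResidueField_apply, hw2]
  exact Function.Surjective.connectedSpace (f := c.left) Surjective.surj c.left.continuous

/-- **The join of two smooth connected normal subgroups.** -/
theorem exists_join (P : ∀ (E : Over (Spec (CommRingCat.of k))) [GrpObj E], Prop)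
    (hPa : ∀ (N E Q : Over (Spec (CommRingCat.of k))) [GrpObj N] [GrpObj E] [GrpObj Q]
      [LocallyOfFiniteType N.hom] [QuasiCompact N.hom] [LocallyOfFiniteType E.hom] [QuasiCompact E.hom]
      [LocallyOfFiniteType Q.hom] [QuasiCompact Q.hom]
      (i : N ⟶ E) (q : E ⟶ Q) [IsMonHom i] [IsMonHom q] [Flat q.left] [Surjective q.left],
      AlgGrp.IsKernel i q → P N → P Q → P E)
    {G Q H I : Over (Spec (CommRingCat.of k))} [GrpObj G] [GrpObj Q] [GrpObj H] [GrpObj I]
    [LocallyOfFiniteType G.hom] [QuasiCompact G.hom] [LocallyOfFiniteType Q.hom]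
    (q : G ⟶ Q) [IsMonHom q] [Flat q.left] [Surjective q.left]
    (j : H ⟶ G) [IsMonHom j] [IsClosedImmersion j.left] [Smooth H.hom] [ConnectedSpace H.left] (hPH : P H)
    (hk : AlgGrp.IsKernel j q)
    (i : I ⟶ Q) [IsMonHom i] [IsClosedImmersion i.left] [Smooth I.hom] [ConnectedSpace I.left] [QuasiCompact I.hom]
    (hPI : P I) (hin : AlgGrp.IsNormalHom i) :
    ∃ (E : Over (Spec (CommRingCat.of k))) (_ : GrpObj E) (e : E ⟶ G), IsMonHom e ∧ IsClosedImmersion e.left ∧
      Smooth E.hom ∧ ConnectedSpace E.left ∧ AlgGrp.IsNormalHom e ∧ P E ∧ (∃ t : H ⟶ E, t ≫ e = j) ∧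
      (∀ {T : Over (Spec (CommRingCat.of k))} (g : T ⟶ G) (x : T ⟶ I), g ≫ q = x ≫ i → ∃ y : T ⟶ E, y ≫ e = g) ∧
      ∃ p : E ⟶ I, Flat p.left ∧ Surjective p.left ∧ QuasiCompact p.left ∧ p ≫ i = e ≫ q := by
  haveI := quasiCompact_hom q
  obtain ⟨E, gE, e, p, t, he, hec, hp, hpf, hps, hpq, hep, htm, hte, hkt, hlift, hn⟩ := exists_preimage q j hk i
  haveI := he; haveI := hec; haveI := hp; haveI := hpf; haveI := hps; haveI := hpq; haveI := htm
  haveI : LocallyOfFiniteType E.hom := by rw [← Over.w e]; infer_instance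
  haveI : QuasiCompact E.hom := by rw [← Over.w e]; infer_instance
  haveI : QuasiCompact H.hom := by rw [← Over.w j]; infer_instance
  haveI : Smooth p.left := smooth_of_kernel t p hkt
  haveI : Smooth E.hom := by rw [← Over.w p]; infer_instance
  haveI : ConnectedSpace E.left := connectedSpace_ext t p hkt
  exact ⟨E, gE, e, he, hec, inferInstance, inferInstance, hn hin, hPa H E I t p hkt hPH hPI, ⟨t, hte⟩, hlift,
    p, hpf, hps, hpq, hep.symm⟩

/-- A family with one invariant minimised. -/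
theorem exists_max_range {G : Over (Spec (CommRingCat.of k))} [GrpObj G] [LocallyOfFiniteType G.hom]
    (C : Set (Set G.left)) (hne : C.Nonempty)
    (hC : ∀ Z ∈ C, IsIrreducible Z ∧ IsClosed Z ∧ η[G].left (IsLocalRing.closedPoint k) ∈ Z) :
    ∃ Z ∈ C, ∀ Z' ∈ C, Z ⊆ Z' → Z' = Z := by
  let e₀ : G.left := η[G].left (IsLocalRing.closedPoint k)
  haveI : IsLocallyNoetherian G.left := LocallyOfFiniteType.isLocallyNoetherian G.hom
  obtain ⟨_, ⟨U, hU, rfl⟩, heU, -⟩ := G.left.isBasis_affineOpens.exists_subset_of_mem_open (Set.mem_univ e₀) isOpen_univ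
  haveI : IsNoetherianRing Γ(G.left, U) := IsLocallyNoetherian.component_noetherian ⟨U, hU⟩
  have hgen : ∀ Z, ∀ hZ : Z ∈ C, (hC Z hZ).1.genericPoint ∈ U := fun Z hZ => by
    have hs := ((hC Z hZ).1.isGenericPoint_genericPoint (hC Z hZ).2.1).specializes (y := e₀) (hC Z hZ).2.2
    exact hs.mem_open U.isOpen heU
  let ξ : ∀ Z, Z ∈ C → Spec Γ(G.left, U) := fun Z hZ => hU.primeIdealOf ⟨(hC Z hZ).1.genericPoint, hgen Z hZ⟩
  let D : Set ℕ∞ := {n | ∃ (Z : Set G.left) (hZ : Z ∈ C), n = (ξ Z hZ).asIdeal.height}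
  obtain ⟨Z₀, hZ₀⟩ := hne
  obtain ⟨n, ⟨Z, hZ, rfl⟩, hmin⟩ := (wellFounded_lt (α := ℕ∞)).has_min D ⟨_, Z₀, hZ₀, rfl⟩
  refine ⟨Z, hZ, fun Z' hZ' hle => ?_⟩
  have hsp : (hC Z' hZ').1.genericPoint ⤳ (hC Z hZ).1.genericPoint :=
    ((hC Z' hZ').1.isGenericPoint_genericPoint (hC Z' hZ').2.1).specializes
      (hle ((hC Z hZ).1.isGenericPoint_genericPoint (hC Z hZ).2.1).mem)
  have hsp' : ξ Z' hZ' ⤳ ξ Z hZ := by
    rw [← hU.fromSpec.isOpenEmbedding.isInducing.specializes_iff]
    simpa only [ξ, IsAffineOpen.fromSpec_primeIdealOf] using hsp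
  have hle' : (ξ Z' hZ').asIdeal ≤ (ξ Z hZ).asIdeal := (PrimeSpectrum.le_iff_specializes _ _).mpr hsp'
  have heq : (ξ Z' hZ').asIdeal = (ξ Z hZ).asIdeal := by
    by_contra hne
    haveI : (ξ Z' hZ').asIdeal.FiniteHeight := inferInstance
    exact hmin _ ⟨Z', hZ', rfl⟩ (Ideal.height_strict_mono_of_isPrime (lt_of_le_of_ne hle' hne))
  have hg : (hC Z' hZ').1.genericPoint = (hC Z hZ).1.genericPoint := by
    simpa only [ξ, IsAffineOpen.fromSpec_primeIdealOf] using congrArg hU.fromSpec (PrimeSpectrum.ext heq)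
  rw [← ((hC Z' hZ').1.isGenericPoint_genericPoint (hC Z' hZ').2.1).def, hg,
    ((hC Z hZ).1.isGenericPoint_genericPoint (hC Z hZ).2.1).def]

end Groth.Agent.Deform.MaxNormal
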